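/- Integer lemmas for Brauer's theorem on homocyclic Sylow 2-subgroups.  Owner: helper3. -/
import Cfsg.Agent.Lib.Char.IntLemmas

set_option autoImplicit false
set_option linter.unusedSectionVars false

namespace Cfsg.Agent.FT.Cons

open Finset Cfsg.Agent.Lib.Char

variable {ι : Type*} [DecidableEq ι] {B : Finset ι} {t : ι} {e : ι → ℤ}

theorem sum_eq_of_supp {M : Type*} [AddCommMonoid M] {s : Finset ι} (hs : s ⊆ B) (f : ι → M)
    (h : ∀ i ∈ B, i ∉ s → f i = 0) : ∑ i ∈ B, f i = ∑ i ∈ s, f i := (Finset.sum_subset hs h).symm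

theorem norm_four (ht : t ∈ B) (h1 : e t = 1) (h : ∑ i ∈ B, e i * e i = 4) :
    ∃ a b c, a ≠ b ∧ a ≠ c ∧ b ≠ c ∧ (B.erase t).filter (fun i => e i ≠ 0) = {a, b, c} ∧
      ∀ i ∈ B, e i ≠ 0 → e i * e i = 1 := by
  rw [← Finset.add_sum_erase _ _ ht, h1] at h
  obtain ⟨h2, h3⟩ := int_small_norm (B.erase t) e 3 le_rfl (by push_cast; omega)
  obtain ⟨a, b, c, n1, n2, n3, he⟩ := Finset.card_eq_three.mp h2
  refine ⟨a, b, c, n1, n2, n3, he, fun i hi h0 => ?_⟩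
  rcases eq_or_ne i t with rfl | hn
  exacts [by rw [h1]; rfl, h3 i (mem_erase.mpr ⟨hn, hi⟩) h0]

theorem shape (he : ∀ i ∈ B, e i ≠ 0 → e i * e i = 1) {v : ι → ℤ} (h2 : ∑ i ∈ B, v i * v i = 2)
    (h3 : ∑ i ∈ B, v i * e i = -1) : ∃ p ∈ B, ∃ q ∈ B, e p ≠ 0 ∧ e q = 0 ∧ v p = -e p ∧ v q * v q = 1 ∧
      ∀ i ∈ B, i ≠ p → i ≠ q → v i = 0 := by
  obtain ⟨h4, h5⟩ := int_small_norm B v 2 (by norm_num) h2
  obtain ⟨p, q, hne, hpq⟩ := Finset.card_eq_two.mp h4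
  have hp : p ∈ B.filter fun i => v i ≠ 0 := by rw [hpq]; simp
  have hq : q ∈ B.filter fun i => v i ≠ 0 := by rw [hpq]; simp
  rw [mem_filter] at hp hq
  have h0 : ∀ i ∈ B, i ≠ p → i ≠ q → v i = 0 := fun i hi n1 n2 => by
    by_contra h
    have : i ∈ B.filter fun i => v i ≠ 0 := mem_filter.mpr ⟨hi, h⟩
    rw [hpq] at this; simp [n1, n2] at this
  rw [sum_eq_of_supp (s := {p, q}) (by simp [insert_subset_iff, hp.1, hq.1]) _ (fun i hi hn => by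
    simp only [mem_insert, mem_singleton, not_or] at hn; rw [h0 i hi hn.1 hn.2, zero_mul]), sum_pair hne] at h3
  have a1 := h5 p hp.1 hp.2
  have a2 := h5 q hq.1 hq.2
  have b1 := Int.eq_one_or_neg_one_of_mul_eq_one a1
  have b2 := Int.eq_one_or_neg_one_of_mul_eq_one a2
  have c : ∀ i ∈ B, e i = 0 ∨ e i = 1 ∨ e i = -1 := fun i hi =>
    (eq_or_ne (e i) 0).imp_right fun h => Int.eq_one_or_neg_one_of_mul_eq_one (he i hi h)
  by_cases h6 : e q = 0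
  · refine ⟨p, hp.1, q, hq.1, ?_, h6, ?_, a2, h0⟩ <;>
      rcases b1 with b1 | b1 <;> simp only [b1, h6] at h3 ⊢ <;> omega
  · refine ⟨q, hq.1, p, hp.1, h6, ?_, ?_, a1, fun i hi n1 n2 => h0 i hi n2 n1⟩ <;>
      rcases b1 with b1 | b1 <;> rcases b2 with b2 | b2 <;> rcases c p hp.1 with c1 | c1 | c1 <;>
      rcases c q hq.1 with c2 | c2 | c2 <;> rw [b1, b2, c1, c2] at h3 <;> omega

/-- coherence: all the vectors meet the support of `e` in the same place -/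
theorem coh {M : Type*} (he : ∀ i ∈ B, e i ≠ 0 → e i * e i = 1) {a b c : ι}
    (hs : ∀ i ∈ B, i ≠ t → e i ≠ 0 → i = a ∨ i = b ∨ i = c) (v : M → ι → ℤ) (R : M → M → Prop)
    (h1 : ∀ μ, v μ t = 0) (h2 : ∀ μ, ∑ i ∈ B, v μ i * v μ i = 2) (h3 : ∀ μ, ∑ i ∈ B, v μ i * e i = -1)
    (h4 : ∀ μ ν, ¬ R μ ν → ∑ i ∈ B, v μ i * v ν i = 1) (h5 : ∀ μ ν, R μ ν → ∀ i, v μ i = v ν i)
    (h6 : ∀ μ ν ρ, ∃ τ, ¬ R μ τ ∧ ¬ R ν τ ∧ ¬ R ρ τ) (μ₀ : M) :
    ∃ p, (p = a ∨ p = b ∨ p = c) ∧ ∀ μ, ∀ i ∈ B, i ≠ p → e i ≠ 0 → v μ i = 0 := by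
  choose p hp q hq k1 k2 k3 k4 k5 using fun μ => shape he (h2 μ) (h3 μ)
  have hpt : ∀ μ, p μ ≠ t := fun μ h => k1 μ (by have := k3 μ; rw [h, h1] at this; rw [h]; omega)
  have hv : ∀ μ, ∀ i ∈ B, i ≠ p μ → e i ≠ 0 → v μ i = 0 := fun μ i hi n1 n2 =>
    k5 μ i hi n1 fun h => n2 (h ▸ k2 μ)
  have key : ∀ μ ν, ¬ R μ ν → (p μ = p ν ↔ q μ ≠ q ν) := fun μ ν h => by
    have := h4 μ ν h
    have hne : p μ ≠ q μ := fun h => k1 μ (h ▸ k2 μ)
    rw [sum_eq_of_supp (s := {p μ, q μ}) (by simp [insert_subset_iff, hp, hq]) _ (fun i hi hn => by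
      simp only [mem_insert, mem_singleton, not_or] at hn; rw [k5 μ i hi hn.1 hn.2, zero_mul]), sum_pair hne] at this
    refine ⟨fun e1 e2 => ?_, fun e2 => by_contra fun e1 => ?_⟩
    · have a1 := he _ (hp μ) (k1 μ)
      rw [k3, e1, k3, e2, neg_mul_neg, ← e1, a1] at this
      have a2 := k4 ν
      have a3 := k4 μ
      rw [e2] at a3
      have a4 : v μ (q ν) * v ν (q ν) = 0 := by omega
      rcases mul_eq_zero.mp a4 with a | a <;> simp [a] at a2 a3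
    · rw [hv ν _ (hp μ) e1 (k1 μ), k5 ν _ (hq μ) (fun h => k1 ν (h ▸ k2 μ)) e2] at this
      simp at this
  have hall : ∀ μ ν, p μ = p ν := fun μ ν => by
    by_contra hne
    have r1 : ¬ R μ ν := fun h => by
      have := hv ν _ (hp μ) hne (k1 μ)
      rw [← h5 μ ν h, k3] at this
      exact k1 μ (by omega)
    have e0 : q μ = q ν := by_contra fun h => hne ((key μ ν r1).mpr h)
    have third : ∀ ρ, ¬ R μ ρ → ¬ R ν ρ → p μ ≠ p ρ ∧ p ν ≠ p ρ ∧ q μ = q ρ := fun ρ s1 s2 => by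
      have t1 := key μ ρ s1
      have t2 := key ν ρ s2
      rw [← e0] at t2
      by_cases h : q μ = q ρ
      · exact ⟨fun e => t1.mp e h, fun e => t2.mp e h, h⟩
      · exact absurd ((t1.mpr h).trans (t2.mpr h).symm) hne
    obtain ⟨ρ, s1, s2, -⟩ := h6 μ ν ν
    obtain ⟨τ, s3, s4, s5⟩ := h6 μ ν ρ
    obtain ⟨u1, u2, u3⟩ := third ρ s1 s2
    obtain ⟨u4, u5, u6⟩ := third τ s3 s4
    refine (key ρ τ s5).mp ?_ (u3.symm.trans u6)
    have w := fun μ => hs _ (hp μ) (hpt μ) (k1 μ)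
    have w1 := w μ
    have w2 := w ν
    have w3 := w ρ
    have w4 := w τ
    generalize p μ = x, p ν = y, p ρ = z, p τ = u at w1 w2 w3 w4 hne u1 u2 u4 u5
    clear * - w1 w2 w3 w4 hne u1 u2 u4 u5
    grind
  exact ⟨p μ₀, hs _ (hp μ₀) (hpt μ₀) (k1 μ₀), fun μ i hi n1 n2 => hv μ i hi (hall μ μ₀ ▸ n1) n2⟩

theorem degree_eq {y z : ℤ} (hy : 16 ∣ y - 1) (hz : 16 ∣ z - 1)
    (h : (1 + y + z) * (y * z + y + z) = 9 * (y * z)) : y = 1 := by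
  obtain ⟨k, hk⟩ : 16 ∣ (1 + y + z) - 3 := by
    rw [show 1 + y + z - 3 = y - 1 + (z - 1) by ring]; exact dvd_add hy hz
  have h1 : (6 - 16 * k) ∣ 72 := ⟨y * z + (1 + y + z) + 8, by
    rw [show 6 - 16 * k = 9 - (1 + y + z) by omega]; linear_combination h⟩
  have h2 := Int.le_of_dvd (by norm_num) h1
  have h3 := Int.le_of_dvd (by norm_num) ((neg_dvd).mpr h1)
  have h4 : k = 0 := by
    have : -5 ≤ k := by omega
    have : k ≤ 5 := by omega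
    interval_cases k <;> simp_all
  have h5 : z = 2 - y := by omega
  subst h5
  nlinarith [sq_nonneg (y - 1)]

end Cfsg.Agent.FT.Cons
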