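/- Brauer's theorem on homocyclic Sylow 2-subgroups of rank two: the character theory.  Owner: helper3. -/
import Cfsg.Agent.FT.Cons.BrInt
import Cfsg.Agent.Lib.Char.Section
import Cfsg.Agent.Lib.Invol.Dihedral

set_option autoImplicit false
set_option linter.unusedSectionVars false

namespace Cfsg.Agent.FT.Cons

open Finset Cfsg.Agent.Lib.Char

variable {G : Type*} [Group G] [Fintype G] {P : Subgroup G} [Fintype P] {φ : P ≃* P}

/-- abelian Sylow `2`-subgroup with automizer of order three acting freely -/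
structure BrHyp (P : Subgroup G) [Fintype P] (φ : P ≃* P) : Prop where
  comm : ∀ a b : P, a * b = b * a
  pg : IsPGroup 2 P
  fus : ∀ u v : P, IsConj (u : G) v ↔ v = u ∨ v = φ u ∨ v = φ (φ u)
  fpf : ∀ u, φ u = u → u = 1
  cube : ∀ u, φ (φ (φ u)) = u
  npc : ∀ u : P, u ≠ 1 → HasNormalPComplement 2 (Subgroup.centralizer {(u : G)}) ∧
    (pResidual 2 (Subgroup.centralizer {(u : G)})).index = Fintype.card P
  dvd : 16 ∣ Fintype.card P
  exp : ∃ s : P, s ^ 2 ≠ 1

theorem alg {a b c A B C w : ℂ} (ha : a * a = 1) (hb : b * b = 1) (hc : c * c = 1) (hA : A ≠ 0) (hB : B ≠ 0)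
    (hC : C ≠ 0) (hD : 1 + a * A + b * B + c * C = 0) (hT : 1 + 1 + 1 + c * w = 0)
    (hK : 1 * 1 / 1 + a * (1 / A) + b * (1 / B) + c * (w * w / C) = 0) :
    (1 + a * A + b * B) * (a * A * (b * B) + a * A + b * B) = 9 * (a * A * (b * B)) := by
  have h1 : w * w = 9 := by linear_combination (c * w - 3) * hT - w * w * hc
  rw [h1] at hK
  field_simp at hK
  linear_combination (a * A * (b * B) + a * A + b * B) * hD - a * b * c * hK + b * B * c * C * ha +
    a * A * c * C * hb + 9 * a * A * b * B * hc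

namespace BrHyp
variable (h : BrHyp P φ)
include h

theorem pow (u : P) : ∃ k, (u : G) ^ 2 ^ k = 1 := (h.pg u).imp fun _ hk => congrArg Subtype.val hk
theorem fpf2 {u : P} (e : φ (φ u) = u) : u = 1 := h.fpf u ((congrArg φ e).symm.trans (h.cube u))

open Classical in
theorem inner {u : P} (hu : u ≠ 1) (v : P) :
    ∑ i ∈ B0 2 G, chi i v * chi i (u : G)⁻¹ = if IsConj (v : G) u then (Fintype.card P : ℂ) else 0 := by
  obtain ⟨k, hk⟩ := h.pow u
  obtain ⟨l, hl⟩ := h.pow v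
  split_ifs with hc
  · rw [← (h.npc u hu).2, ← B0_column_norm hk (h.npc u hu).1]
    exact sum_congr rfl fun i _ => by rw [(isClass_chi i).of_isConj hc]
  · exact B0_orthogonality fun hs => hc (hs.isConj hl hk)

theorem col {f : P → ℂ} (hf : f 1 = 0) (v : P) :
    ∑ i ∈ B0 2 G, ip f (chi i ∘ P.subtype) * chi i v = f v + f (φ v) + f (φ (φ v)) := by
  classical
  have e : ∀ u : P, ∑ i ∈ B0 2 G, f u * chi i (u : G)⁻¹ * chi i v =
      Fintype.card P * if IsConj (v : G) u then f u else 0 := fun u => by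
    rcases eq_or_ne u 1 with rfl | hu
    · simp [hf]
    · have := h.inner hu v
      simp only [mul_assoc, ← mul_sum, mul_comm (chi _ (u : G)⁻¹), this]
      split_ifs <;> ring
  simp only [ip, Function.comp_apply, Subgroup.coe_subtype, Subgroup.coe_inv, mul_assoc, sum_mul, ← mul_sum]
  rw [sum_comm]
  simp only [← mul_assoc, e, ← mul_sum]
  rw [inv_mul_cancel₀ card_ne_zero', one_mul, ← sum_filter]
  rcases eq_or_ne v 1 with rfl | hv
  · rw [sum_eq_zero fun u hu => ?_]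
    · simp [hf]
    · have := (h.fus _ _).mp (mem_filter.mp hu).2
      simp only [map_one, or_self] at this
      rw [this, hf]
  · have n1 : v ≠ φ v := fun e => hv (h.fpf v e.symm)
    have n2 : v ≠ φ (φ v) := fun e => hv (h.fpf2 e.symm)
    rw [show (univ.filter fun u : P => IsConj (v : G) u) = {v, φ v, φ (φ v)} by ext u; simp [h.fus, -isConj_iff],
      sum_insert (by simp [n1, n2]), sum_pair (by simpa using n1), add_assoc]

theorem gram {f : P → ℂ} (hf : f 1 = 0) (g : P → ℂ) :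
    ∑ i ∈ B0 2 G, ip f (chi i ∘ P.subtype) * ip g (chi i ∘ P.subtype) =
      ip f g + ip (fun v => f (φ v)) g + ip (fun v => f (φ (φ v))) g := by
  have e : ∀ i : Irr G, ip f (chi i ∘ P.subtype) * ip g (chi i ∘ P.subtype) =
      (Fintype.card P : ℂ)⁻¹ * ∑ v : P, ip f (chi i ∘ P.subtype) * chi i v * g v⁻¹ := fun i => by
    rw [ip_comm g, ip.eq_1 _ g]
    simp only [Function.comp_apply, Subgroup.coe_subtype, mul_assoc, ← mul_sum]; ring
  simp only [e, ← mul_sum]
  rw [sum_comm]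
  simp only [← sum_mul, h.col hf]
  simp only [add_mul, sum_add_distrib, mul_add, ip]

theorem not_sec {t x : G} (ht : t * t = 1) {u : P} (hu : u ^ 2 ≠ 1) : ¬ PSec 2 (t * (x * t * x⁻¹)) u := by
  rintro ⟨n, hn, hc⟩
  have h1 : x * t * x⁻¹ * (x * t * x⁻¹) = 1 := by rw [conj_mul, ht]; simp
  have h2 := Lib.Invol.conj_pow_of_inverts (Lib.Invol.conj_mul_eq_inv ht h1) n
  obtain ⟨c, hc'⟩ := isConj_iff.mp hc
  have h3 : IsConj ((u ^ n : P) : G) ((u ^ n)⁻¹ : P) :=
    hc.symm.trans ((isConj_iff.mpr ⟨t, h2⟩).trans (isConj_iff.mpr ⟨c, by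
      rw [Subgroup.coe_inv, Subgroup.coe_pow, ← hc']; group⟩))
  obtain ⟨k, hk⟩ := h.pg u
  obtain ⟨m, hm⟩ := exists_pow_pow_eq (G := P) hn k
  have h4 : (u ^ n) ^ 2 = 1 := by
    generalize u ^ n = w at h3
    rcases (h.fus _ _).mp h3 with e | e | e
    · rw [sq]; exact mul_eq_one_iff_eq_inv.mpr e.symm
    · rw [h.fpf2 (u := w) (by rw [← e, map_inv, ← e, inv_inv]), one_pow]
    · rw [h.fpf w (by
        have := h.cube (φ w)
        rw [← e, map_inv, map_inv, ← e, inv_inv] at this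
        exact this.symm), one_pow]
  exact hu (by rw [← hm u hk, ← pow_mul, mul_comm, pow_mul, h4, one_pow])

theorem key {f : P → ℂ} (hf : ∀ u, u ^ 2 = 1 → f u = 0) {t : G} (ht : t * t = 1) :
    ∑ i ∈ B0 2 G, ip f (chi i ∘ P.subtype) * (chi i t * chi i t / deg i) = 0 := by
  have e : ∀ u : P, ∑ i ∈ B0 2 G, f u * chi i (u : G)⁻¹ * (chi i t * chi i t / deg i) = 0 := fun u => by
    by_cases hu : u ^ 2 = 1
    · simp [hf u hu]
    have : ∑ i ∈ B0 2 G, ∑ x, chi i (t * (x * t * x⁻¹)) * chi i (u : G)⁻¹ = 0 := by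
      rw [sum_comm]; exact sum_eq_zero fun x _ => B0_orthogonality (h.not_sec ht hu)
    simp only [← sum_mul, sum_chi_mul_conj] at this
    refine mul_left_cancel₀ (card_ne_zero' (G := G)) ?_
    rw [mul_zero, ← mul_zero (f u), ← this, mul_sum, mul_sum]
    exact sum_congr rfl fun i _ => by ring
  simp only [ip, Function.comp_apply, Subgroup.coe_subtype, Subgroup.coe_inv, mul_assoc, sum_mul, ← mul_sum]
  rw [sum_comm]
  simp only [← mul_assoc, e, sum_const_zero, mul_zero]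

theorem exists_lin : ∃ a : Irr G, a ≠ triv G ∧ deg a = 1 ∧ P ≤ kerI a := by
  classical
  have hdeg := deg_eq_one_of_comm h.comm
  have hone : ∀ i : Irr P, chi i 1 = 1 := fun i => by rw [chi_one, hdeg, Nat.cast_one]
  have hsum : ∀ u : P, ∑ i : Irr P, chi i u = if u = 1 then (Fintype.card P : ℂ) else 0 := fun u => by
    simpa [hdeg] using sum_deg_mul_chi u
  have hcard : Fintype.card (Irr P) = Fintype.card P := by simpa [hone] using hsum 1
  choose σ hσ using fun i : Irr P => exists_chi_eq_lin ((linOf (hdeg i)).comp φ.toMonoidHom)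
  replace hσ : ∀ i, (fun v => chi i (φ v)) = chi (σ i) := fun i => (hσ i).symm
  have hσ' : ∀ i v, chi i (φ v) = chi (σ i) v := fun i v => congrFun (hσ i) v
  have σ3 : ∀ i, σ (σ (σ i)) = i := fun i => chi_injective (by ext v; simp only [← hσ', h.cube])
  have σ1 : ∀ i, σ i = i → i = triv P := fun i e => by
    have hinj : Function.Injective fun u : P => φ u * u⁻¹ := fun u v e => by
      replace e : φ u * u⁻¹ = φ v * v⁻¹ := e
      have : φ (v⁻¹ * u) = v⁻¹ * u := by
        rw [map_mul, map_inv, inv_mul_eq_iff_eq_mul, ← mul_assoc, ← e, inv_mul_cancel_right]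
      exact (inv_mul_eq_one.mp (h.fpf _ this)).symm
    refine eq_triv_iff.mpr (funext fun w => ?_)
    obtain ⟨u, rfl⟩ := Finite.injective_iff_surjective.mp hinj w
    simp only [chi_mul_of_deg_one (hdeg i), hσ', e]
    rw [← chi_mul_of_deg_one (hdeg i), mul_inv_cancel, hone, Pi.one_apply]
  have σt : σ (triv P) = triv P := eq_triv_iff.mpr (by rw [← hσ, chi_triv]; rfl)
  choose m hm using fun (χ : Irr G) (k : Irr P) => (isVChar_chi k).ip_int ((isVChar_chi χ).comp P.subtype)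
  have hmσ : ∀ χ k, m χ (σ k) = m χ k := fun χ k => by
    refine Int.cast_injective (α := ℂ) ?_
    rw [← hm, ← hm, ← hσ, ip, ip]
    congr 1
    refine Fintype.sum_equiv φ.toEquiv _ _ fun v => ?_
    simp only [Function.comp_apply, Subgroup.coe_subtype, MulEquiv.toEquiv_eq_coe, EquivLike.coe_coe, ← map_inv]
    rw [(isClass_chi χ).of_isConj ((h.fus v⁻¹ _).mpr (Or.inr (Or.inl rfl)))]
  have hmt : ∀ k, m (triv G) k = if k = triv P then 1 else 0 := fun k => by
    refine Int.cast_injective (α := ℂ) ?_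
    rw [← hm, chi_triv, show (1 : G → ℂ) ∘ P.subtype = chi (triv P) by rw [chi_triv]; rfl, ip_chi_chi]
    split_ifs <;> simp
  have hexp : ∀ (χ : Irr G) (u : P), chi χ u = ∑ k, m χ k * chi k u := fun χ u => by
    have := ((isClass_chi χ).comp P.subtype).apply_eq_sum u
    simp only [ip_comm (chi χ ∘ _), hm] at this
    exact this
  let R : Irr P → Irr P → Prop := fun i k => k = i ∨ k = σ i ∨ k = σ (σ i)
  let n : Irr P → Irr P → ℤ := fun i k =>
    (if i = k then 1 else 0) + (if σ i = k then 1 else 0) + if σ (σ i) = k then 1 else 0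
  have G2 : ∀ i j k l, ∑ χ ∈ B0 2 G, (m χ i - m χ j) * (m χ k - m χ l) = n i k - n j k - n i l + n j l := by
    intro i j k l
    refine Int.cast_injective (α := ℂ) ?_
    have := h.gram (f := chi i - chi j) (by simp [hone]) (chi k - chi l)
    have e1 : (fun v => (chi i - chi j) (φ v)) = chi (σ i) - chi (σ j) := by ext v; simp [hσ']
    have e2 : (fun v => (chi i - chi j) (φ (φ v))) = chi (σ (σ i)) - chi (σ (σ j)) := by ext v; simp [hσ']
    rw [e1, e2] at this
    simp only [ip_sub_left, ip_sub_right, hm, ip_chi_chi] at this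
    simp only [n]; push_cast
    rw [this]; ring
  have n0 : ∀ i k, ¬ R i k → n i k = 0 := fun i k hr => by
    simp only [R, not_or] at hr
    simp only [n, if_neg (Ne.symm hr.1), if_neg (Ne.symm hr.2.1), if_neg (Ne.symm hr.2.2), add_zero]
  have n1 : ∀ i, i ≠ triv P → n i i = 1 := fun i hi => by
    have a1 : σ i ≠ i := fun e => hi (σ1 i e)
    have a2 : σ (σ i) ≠ i := fun e => a1 (by rw [← congrArg σ e, σ3])
    simp only [n, if_neg a1, if_neg a2, if_true, add_zero]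
  have n3 : n (triv P) (triv P) = 3 := by simp only [n, σt, if_true]; rfl
  have Rs : ∀ i k, R i k → R k i := by
    rintro i k (rfl | rfl | rfl)
    exacts [Or.inl rfl, Or.inr (Or.inr (σ3 i).symm), Or.inr (Or.inl (σ3 i).symm)]
  have Rt : ∀ i, i ≠ triv P → ¬ R (triv P) i := fun i hi => by simp only [R, σt, or_self]; exact hi
  have Rm : ∀ χ i k, R i k → m χ k = m χ i := by
    rintro χ i k (rfl | rfl | rfl) <;> simp only [hmσ]
  obtain ⟨s, hs⟩ := h.exp
  obtain ⟨μ, hμ⟩ : ∃ μ : Irr P, chi μ (s ^ 2) ≠ 1 := by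
    by_contra hc
    push Not at hc
    have := hsum (s ^ 2)
    simp only [hc, if_neg hs, sum_const, card_univ, nsmul_eq_mul, mul_one] at this
    exact card_ne_zero' (G := P) (hcard ▸ this)
  obtain ⟨l, hl⟩ := exists_chi_eq_lin ((linOf (hdeg μ)).comp (⟨⟨fun u => u ^ 2, one_pow 2⟩,
    fun a b => Commute.mul_pow (h.comm a b) 2⟩ : P →* P))
  replace hl : ∀ u, chi l u = chi μ (u ^ 2) := fun u => congrFun hl u
  have hlt : l ≠ triv P := fun e => hμ (by rw [← hl, e, chi_triv, Pi.one_apply])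
  have hf : ∀ u : P, u ^ 2 = 1 → (chi (triv P) - chi l) u = 0 := fun u hu => by simp [hl, hu, hone]
  have hR6 : ∀ μ ν ρ : Irr P, ∃ τ, (τ ≠ triv P ∧ ¬ R l τ) ∧ ¬ R μ τ ∧ ¬ R ν τ ∧ ¬ R ρ τ := fun μ ν ρ => by
    obtain ⟨τ, -, hτ⟩ := exists_mem_notMem_of_card_lt_card (t := univ) (s := [triv P, l, σ l, σ (σ l), μ, σ μ,
      σ (σ μ), ν, σ ν, σ (σ ν), ρ, σ ρ, σ (σ ρ)].toFinset) ((List.toFinset_card_le _).trans_lt (by
        have := Nat.le_of_dvd Fintype.card_pos h.dvd
        simp only [List.length_cons, List.length_nil, card_univ, hcard]; omega))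
    refine ⟨τ, ?_⟩
    simp only [List.mem_toFinset, List.mem_cons, List.not_mem_nil, or_false, not_or] at hτ
    simp only [R, not_or]
    tauto
  set e : Irr G → ℤ := fun χ => m χ (triv P) - m χ l with he
  have het : e (triv G) = 1 := by simp [he, hmt, hlt]
  obtain ⟨a, b, c, d1, d2, d3, hE, he1⟩ := norm_four (e := e) triv_mem_B0 het (by
    simp only [he]; rw [G2, n3, n1 l hlt, n0 _ _ (Rt l hlt), n0 _ _ fun hr => Rt l hlt (Rs _ _ hr)]; rfl)
  obtain ⟨μ₀, hμ₀, -⟩ := hR6 l l l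
  obtain ⟨p, hp, hv⟩ := coh (B := B0 2 G) (t := triv G) (M := {τ // τ ≠ triv P ∧ ¬ R l τ}) he1 (a := a) (b := b)
    (c := c) (fun i hi h1 h2 => by
      have : i ∈ ((B0 2 G).erase (triv G)).filter fun i => e i ≠ 0 := mem_filter.mpr ⟨mem_erase.mpr ⟨h1, hi⟩, h2⟩
      rw [hE] at this; simpa using this)
    (fun τ χ => m χ l - m χ τ.1) (fun τ ρ => R τ.1 ρ.1) (fun τ => by simp [hmt, hlt, τ.2.1])
    (fun τ => by rw [G2, n1 l hlt, n1 _ τ.2.1, n0 _ _ τ.2.2, n0 _ _ fun hr => τ.2.2 (Rs _ _ hr)]; rfl)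
    (fun τ => by
      simp only [he]
      rw [G2, n1 l hlt, n0 _ _ fun hr => Rt l hlt (Rs _ _ hr), n0 _ _ fun hr => Rt _ τ.2.1 (Rs _ _ hr),
        n0 _ _ fun hr => τ.2.2 (Rs _ _ hr)]; rfl)
    (fun τ ρ hr => by rw [G2, n1 l hlt, n0 _ _ hr, n0 _ _ ρ.2.2, n0 _ _ fun hr => τ.2.2 (Rs _ _ hr)]; rfl)
    (fun τ ρ hr χ => by rw [Rm χ _ _ hr])
    (fun μ ν ρ => let ⟨τ, h1, h2⟩ := hR6 μ.1 ν.1 ρ.1; ⟨⟨τ, h1⟩, h2⟩) ⟨μ₀, hμ₀⟩
  obtain ⟨x, y, d1, d2, d3, hE⟩ : ∃ x y, x ≠ y ∧ x ≠ p ∧ y ≠ p ∧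
      ((B0 2 G).erase (triv G)).filter (fun i => e i ≠ 0) = {x, y, p} := by
    rcases hp with rfl | rfl | rfl
    · exact ⟨b, c, d3, d1.symm, d2.symm, by rw [hE]; ext; simp; tauto⟩
    · exact ⟨a, c, d2, d1, d3.symm, by rw [hE]; ext; simp; tauto⟩
    · exact ⟨a, b, d1, d2, d3, hE⟩
  have hmem : ∀ i, i = x ∨ i = y ∨ i = p → (i ≠ triv G ∧ i ∈ B0 2 G) ∧ e i ≠ 0 := fun i hi => by
    have : i ∈ ((B0 2 G).erase (triv G)).filter fun i => e i ≠ 0 := by rw [hE]; simpa using hi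
    simpa using this
  obtain ⟨⟨x1, x2⟩, x3⟩ := hmem x (Or.inl rfl)
  obtain ⟨⟨y1, y2⟩, y3⟩ := hmem y (Or.inr (Or.inl rfl))
  obtain ⟨⟨p1, p2⟩, p3⟩ := hmem p (Or.inr (Or.inr rfl))
  have hS : ∀ F : Irr G → ℂ, ∑ i ∈ B0 2 G, ip (chi (triv P) - chi l) (chi i ∘ P.subtype) * F i =
      F (triv G) + e x * F x + e y * F y + e p * F p := fun F => by
    have e0 : ∀ i, ip (chi (triv P) - chi l) (chi i ∘ P.subtype) = e i := fun i => by
      simp only [ip_sub_left, hm, he, Int.cast_sub]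
    simp only [e0]
    rw [← add_sum_erase _ _ triv_mem_B0, het, ← sum_filter_of_ne (p := fun i => e i ≠ 0) (fun i _ h0 h1 => h0 (by
      simp [h1])), hE, sum_insert (by simp [d1, d2]), sum_pair d3]
    simp [add_assoc]
  have flat : ∀ i ∈ B0 2 G, i ≠ p → e i ≠ 0 → ∀ u : P, chi i u = e i + m i l * if u = 1 then (Fintype.card P : ℂ)
      else 0 := fun i hi h1 h2 u => by
    have e1 : ∀ k, (m i k : ℂ) = m i l + if k = triv P then (e i : ℂ) else 0 := fun k => by
      split_ifs with hk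
      · simp [hk, he]
      · by_cases hr : R l k
        · simp [Rm i _ _ hr]
        · have := hv ⟨k, hk, hr⟩ i hi h1 h2
          rw [add_zero]; exact_mod_cast (sub_eq_zero.mp this).symm
    rw [hexp, ← hsum, sum_congr rfl fun k _ => by rw [e1 k]]
    simp only [add_mul, sum_add_distrib, ite_mul, zero_mul, sum_ite_eq', mem_univ, if_true, chi_triv,
      Pi.one_apply, mul_one, ← mul_sum, add_comm]
  obtain ⟨k, hk⟩ := h.pg s
  obtain ⟨t, ht1, ht2⟩ : ∃ t : P, t ≠ 1 ∧ t * t = 1 := by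
    have : Fact (Nat.Prime 2) := ⟨Nat.prime_two⟩
    obtain ⟨t, ht⟩ := exists_prime_orderOf_dvd_card 2 ((by norm_num : 2 ∣ 16).trans h.dvd)
    exact ⟨t, fun e => by simp [e] at ht, by rw [← sq, ← ht, pow_orderOf_eq_one]⟩
  have hf1 := hf 1 (one_pow 2)
  have hD := (hS fun i => chi i (1 : P)).symm.trans (h.col hf1 1)
  have hT := (hS fun i => chi i t).symm.trans (h.col hf1 t)
  have hK := (hS fun i => chi i t * chi i t / deg i).symm.trans (h.key hf (congrArg Subtype.val ht2))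
  have hφ : ∀ u : P, u * u = 1 → φ u * φ u = 1 := fun u hu => by rw [← map_mul, hu, map_one]
  rw [hf t (by rw [sq, ht2]), hf _ (by rw [sq, hφ _ ht2]), hf _ (by rw [sq, hφ _ (hφ _ ht2)])] at hT
  have dt : (deg (triv G) : ℂ) = 1 := by rw [← chi_one, chi_triv, Pi.one_apply]
  have fx := flat x x2 d2 x3
  have fy := flat y y2 d3 y3
  have fx1 := fx 1
  have fy1 := fy 1
  have ex : (e x : ℂ) * e x = 1 := by exact_mod_cast he1 x x2 x3
  have ey : (e y : ℂ) * e y = 1 := by exact_mod_cast he1 y y2 y3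
  have ep : (e p : ℂ) * e p = 1 := by exact_mod_cast he1 p p2 p3
  simp only [map_one, hf1, OneMemClass.coe_one, chi_one, dt, add_zero, if_true] at hD fx1 fy1
  simp only [fx t, fy t, if_neg ht1, mul_zero, add_zero, chi_triv, Pi.one_apply, dt, ex, ey] at hT hK
  have hd : ∀ i, (e i : ℂ) * e i = 1 → (deg i : ℂ) = e i + m i l * Fintype.card P → 16 ∣ e i * deg i - 1 :=
    fun i h1 h2 => by
      have : e i * deg i - 1 = Fintype.card P * (e i * m i l) := Int.cast_injective (α := ℂ) (by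
        push_cast; rw [h2]; linear_combination h1)
      rw [this]; exact (Int.natCast_dvd_natCast.mpr h.dvd).mul_right _
  have hX := degree_eq (hd x ex fx1) (hd y ey fy1) (Int.cast_injective (α := ℂ) (by
    push_cast; exact alg ex ey ep (deg_ne_zero x) (deg_ne_zero y) (deg_ne_zero p) hD hT hK))
  have hx1 : deg x = 1 ∧ e x = 1 := by
    rcases Int.eq_one_or_neg_one_of_mul_eq_one' hX with ⟨a1, a2⟩ | ⟨a1, a2⟩
    exacts [⟨by exact_mod_cast a2, a1⟩, by omega]
  refine ⟨x, x1, hx1.1, fun u hu => mem_kerI.mpr ?_⟩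
  rcases eq_or_ne u 1 with rfl | hu1
  · exact chi_one x
  · simpa [hu1, hx1.1, hx1.2] using fx ⟨u, hu⟩

end BrHyp

end Cfsg.Agent.FT.Cons
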