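/- Metacyclic 2-groups with an automorphism of odd order.  Owner: helper3. -/
import Cfsg.Agent.FT.BG01
import Cfsg.Agent.Lib.Glaub.Alperin

set_option autoImplicit false
set_option linter.unusedSectionVars false

namespace Cfsg.Agent.FT.Cons

open Subgroup Cfsg.Agent.Lib.Core
open scoped Cfsg.Agent.Lib.Glaub commutatorElement

variable {G : Type*} [Group G] [Finite G] {H L A Q Z : Subgroup G} {x y g u v : G}

theorem idx2 (h : ∀ u ∈ H, u ∈ L ∨ u * y ∈ L) (hH : A ≤ 𝐍(H)) (hL : A ≤ 𝐍(L)) : ⁅H, A⁆ ≤ L :=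
  commutator_le.mpr fun u hu a ha => by
    by_cases h1 : u ∈ L
    · convert L.mul_mem h1 (L.inv_mem (conj_mem_of_mem_normalizer (hL ha) h1)) using 1
      group
    · have h2 : a * u * a⁻¹ ∉ L := fun h2 => h1 (by simpa [mul_assoc] using conj_mem_of_mem_normalizer' (hL ha) h2)
      convert L.mul_mem ((h u hu).resolve_left h1) (L.inv_mem ((h _ (conj_mem_of_mem_normalizer (hH ha) hu)).resolve_left
        h2)) using 1
      group

theorem exists_npow (h : y ∈ zpowers x) : ∃ n : ℕ, x ^ n = y := mem_powers_iff_mem_zpowers.mpr h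

theorem even_pow_mem (h : x ^ 2 ∈ L) {n : ℕ} (hn : Even n) : x ^ n ∈ L := by
  obtain ⟨k, rfl⟩ := hn.two_dvd; rw [pow_mul]; exact L.pow_mem h k

theorem idx2_zpowers (hL : zpowers y ≤ 𝐍(L)) (h : y ^ 2 ∈ L) : ∀ u ∈ L ⊔ zpowers y, u ∈ L ∨ u * y ∈ L := fun u hu => by
  obtain ⟨l, hl, w, hw, rfl⟩ := (mem_sup_of_le_normalizer_left hL).mp hu
  obtain ⟨n, rfl⟩ := exists_npow hw
  rw [mul_assoc, ← pow_succ]
  exact (Nat.even_or_odd n).imp (fun e => L.mul_mem hl (even_pow_mem h e)) fun e =>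
    L.mul_mem hl (even_pow_mem h e.add_one)

theorem cop_odd (hQ : IsPGroup 2 Q) (hg : Odd (orderOf g)) : (Nat.card Q).Coprime (Nat.card (zpowers g)) := by
  obtain ⟨n, hn⟩ := exists_card_eq_pow hQ
  rw [hn, Nat.card_zpowers]; exact (Nat.coprime_two_left.mpr hg).pow_left n

theorem mem_zpowers_sq (hg : Odd (orderOf g)) : g ∈ zpowers (g ^ 2) :=
  mem_zpowers_pow_iff.mpr (Nat.coprime_two_left.mpr hg)

theorem mem_zpowers_odd (hQ : IsPGroup 2 Q) (hx : x ∈ Q) {n : ℕ} (hn : Odd n) : x ∈ zpowers (x ^ n) := by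
  obtain ⟨k, hk⟩ := pow_eq_one_of_isPGroup hQ hx
  exact mem_zpowers_pow_iff.mpr (((Nat.coprime_two_right.mpr hn).pow_right k).coprime_dvd_right
    (orderOf_dvd_of_pow_eq_one hk))

theorem cent_Phi (hQ : IsPGroup 2 Q) (hg : Odd (orderOf g)) (h : ⁅Q, zpowers g⁆ ≤ PhiOf Q) : g ∈ 𝐂(Q) :=
  coprime_cent_Phi hQ (cop_odd hQ hg) h (mem_zpowers g)

theorem cent_cyc (hZ : IsPGroup 2 Z) (hc : IsCyclic Z) (hg : Odd (orderOf g)) (hn : g ∈ 𝐍(Z)) : g ∈ 𝐂(Z) := by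
  obtain ⟨z, rfl⟩ := isCyclic_iff_zpowers.mp hc
  have hA : zpowers g ≤ 𝐍(zpowers z) := zpowers_le.mpr hn
  exact cent_Phi hZ hg (idx2 (fun u hu => idx2_zpowers (PhiOf_nrm _).norm (pow_mem_PhiOf hZ (mem_zpowers z)) u
    (mem_sup_right hu)) hA (hA.trans (norm_le_norm_PhiOf _)))

theorem chain2 (hZ : IsPGroup 2 Z) (hc : IsCyclic Z) (hu : u ∈ Z) (hv : v ∈ Z) :
    u ∈ zpowers v ∨ v ∈ zpowers (u ^ 2) := by
  obtain ⟨i, hi⟩ := exists_card_eq_pow (isPGroup_zpowers_of_mem hZ hu)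
  obtain ⟨j, hj⟩ := exists_card_eq_pow (isPGroup_zpowers_of_mem hZ hv)
  rcases le_total i j with h | h
  · exact Or.inl (le_of_isCyclic_of_card_dvd hc (zpowers_le.mpr hu) (zpowers_le.mpr hv)
      (by rw [hi, hj]; exact pow_dvd_pow 2 h) (mem_zpowers u))
  · obtain ⟨n, rfl⟩ := exists_npow (le_of_isCyclic_of_card_dvd hc (zpowers_le.mpr hv) (zpowers_le.mpr hu)
      (by rw [hi, hj]; exact pow_dvd_pow 2 h) (mem_zpowers v))
    exact (Nat.even_or_odd n).symm.imp (mem_zpowers_odd hZ hu) (even_pow_mem (mem_zpowers _))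

theorem exists_sq_mem (hH : IsPGroup 2 H) (h : ¬ H ≤ L) : ∃ t ∈ H, t ∉ L ∧ t ^ 2 ∈ L := by
  obtain ⟨t, ht, htL⟩ := SetLike.not_le_iff_exists.mp h
  obtain ⟨k, hk⟩ := pow_eq_one_of_isPGroup hH ht
  replace hk : t ^ 2 ^ k ∈ L := hk ▸ L.one_mem
  induction k generalizing t with
  | zero => exact absurd (by simpa using hk) htL
  | succ k ih =>
    by_cases h2 : t ^ 2 ∈ L
    exacts [⟨t, ht, htL, h2⟩, ih _ (H.pow_mem ht 2) h2 (by rwa [← pow_mul, ← pow_succ'])]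

theorem mul_pow_mod (hZ : Q ≤ 𝐂(Z)) (hD : ⁅Q, Q⁆ ≤ Z) (hu : u ∈ Q) (hv : v ∈ Q) (n : ℕ) :
    ∃ z ∈ Z, (u * v) ^ n = u ^ n * v ^ n * z := by
  induction n with
  | zero => exact ⟨1, Z.one_mem, by simp⟩
  | succ n ih =>
    obtain ⟨z, hz, e⟩ := ih
    have hw := hD (commutator_mem_commutator (Q.inv_mem hu) (Q.pow_mem hv n))
    refine ⟨⁅u⁻¹, v ^ n⁆ * z, Z.mul_mem hw hz, ?_⟩
    rw [pow_succ, e, mul_assoc _ z, hZ (Q.mul_mem hu hv) z hz, ← mul_assoc _ _ z, ← mul_assoc _ _ z,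
      mul_assoc (u ^ (n + 1)), ← hZ (Q.pow_mem hv (n + 1)) _ hw]
    group

/-- a metacyclic `2`-group with an automorphism of odd order is homocyclic (`Q₈` is excluded by `hH`) -/
theorem homoc (hQ : IsPGroup 2 Q) (hx : zpowers x ⊲ Q) (hy : zpowers x ⊔ zpowers y = Q) (hg : Odd (orderOf g))
    (hn : g ∈ 𝐍(Q)) (hc : g ∉ 𝐂(Q))
    (hH : ∀ z ∈ Q, z ^ 2 ∈ zpowers x → ∀ n ∈ zpowers x, n ^ 4 = 1 → Commute z n) :
    DP (zpowers x) (zpowers (g * x * g⁻¹)) Q := by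
  have hxQ : x ∈ Q := hx.le (mem_zpowers x)
  have hyQ : y ∈ Q := hy ▸ mem_sup_right (mem_zpowers y)
  have hΦ := PhiOf_nrm Q
  have hL := hΦ.sup hx
  have sq : ∀ u ∈ Q, u ^ 2 ∈ PhiOf Q := fun u hu => pow_mem_PhiOf hQ hu
  have hQL : ∀ u ∈ Q, _ := fun u hu => idx2_zpowers (hL.le_norm (zpowers_le.mpr hyQ)) (mem_sup_left (sq y hyQ)) u
    ((hy.ge.trans (sup_le_sup_right le_sup_right _)) hu)
  have key : ∀ k ∈ 𝐍(Q), g ∈ zpowers k → k * x * k⁻¹ ∉ PhiOf Q ⊔ zpowers x := fun k hk hgk hb => by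
    have h1 : zpowers g ≤ 𝐍(Q) := zpowers_le.mpr hn
    have h2 : zpowers g ≤ 𝐍(PhiOf Q ⊔ zpowers x) := zpowers_le.mpr (zpowers_le.mpr
      (Lib.Glaub.mem_normalizer_of_cj_le (by
        rw [cj_sup, cj_zpowers, cj_eq_of_mem_norm (norm_le_norm_PhiOf Q hk)]
        exact sup_le le_sup_left (zpowers_le.mpr hb))) hgk)
    refine hc (cent_Phi hQ hg ?_)
    rw [← coprime_commGid h1 (cop_odd hQ hg) (isSolvable_of_isPGroup hQ)]
    exact (commutator_mono (idx2 hQL h1 h2) le_rfl).trans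
      (idx2 (idx2_zpowers (hΦ.le_norm hx.le) (sq x hxQ)) h2 (h1.trans (norm_le_norm_PhiOf Q)))
  have hb1 := key g hn (mem_zpowers g)
  have hc1 := key _ (pow_mem hn 2) (mem_zpowers_sq hg)
  have hb : zpowers (g * x * g⁻¹) ⊲ Q := by simpa only [cj_zpowers, cj_eq_of_mem_norm hn] using hx.cj g
  have hZb : cj(g, zpowers x ⊓ zpowers (g * x * g⁻¹)) ≤ zpowers (g * x * g⁻¹) := by
    rw [← cj_zpowers]; exact cj_mono g inf_le_left
  have eb : ∀ n : ℕ, (g * x * g⁻¹) ^ n = g * x ^ n * g⁻¹ := fun n => conj_pow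
  rw [show g ^ 2 * x * (g ^ 2)⁻¹ = g * (g * x * g⁻¹) * g⁻¹ by rw [pow_two]; group] at hc1
  generalize g * x * g⁻¹ = b at *
  have hbQ : b ∈ Q := hb.le (mem_zpowers b)
  have hQe : zpowers x ⊔ zpowers b = Q := Phi_nongen (sup_le hx.le hb.le) fun u hu => by
    rw [← sup_assoc]
    rcases hQL u hu with h | h
    · exact mem_sup_left h
    · convert mul_mem (mem_sup_left (mul_mem h (inv_mem ((hQL b hbQ).resolve_left hb1))))
        (mem_sup_right (mem_zpowers b)) using 1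
      group
  rw [← hQe]
  refine dp_of_norm (hb.le_norm hx.le) (hx.le_norm hb.le) ?_
  set Z := zpowers x ⊓ zpowers b with hZ
  have hZc : Q ≤ 𝐂(Z) := hQe ▸ sup_le (le_cent_of_isComm (isComm_zpowers x) le_rfl inf_le_left)
    (le_cent_of_isComm (isComm_zpowers b) le_rfl inf_le_right)
  have hD : ⁅Q, Q⁆ ≤ Z := le_inf (CycMod.abMod ⟨b, hbQ, hQe.ge⟩ hx.norm)
    (CycMod.abMod ⟨x, hxQ, by rw [sup_comm, hQe]⟩ hb.norm)
  have hgZ : g ∈ 𝐂(Z) := cent_cyc (hQ.to_le (inf_le_left.trans hx.le)) (isCyclic_of_le (isCyclic_zpowers x) inf_le_left)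
    hg (cj_eq_iff.mp (eq_of_isCyclic_of_card_eq (isCyclic_zpowers b) hZb inf_le_right (card_cj _ _)))
  obtain ⟨i', hi, j', hj, hij⟩ := (mem_sup_of_le_normalizer_left (hx.le_norm hb.le)).mp
    (hQe ▸ conj_mem_of_mem_normalizer hn hbQ)
  obtain ⟨i, rfl⟩ := exists_npow hi
  obtain ⟨j, rfl⟩ := exists_npow hj
  obtain ⟨i, rfl⟩ : Odd i := Nat.not_even_iff_odd.mp fun e => hb1 (by
    rw [← conj_mem_cj (g := g), cj_sup, cj_zpowers, cj_eq_of_mem_norm (norm_le_norm_PhiOf Q hn), ← hij, ← pow_one x, ← eb,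
      pow_one, pow_one]
    exact mul_mem (mem_sup_left (even_pow_mem (sq x hxQ) e)) (mem_sup_right hj))
  obtain ⟨j, rfl⟩ : Odd j := Nat.not_even_iff_odd.mp fun e => hc1 (hij ▸
    mul_mem (mem_sup_right hi) (mem_sup_left (even_pow_mem (sq b hbQ) e)))
  obtain ⟨x', hx', h1, h2⟩ := exists_sq_mem (L := Z) (hQ.to_le hx.le) fun h => hb1 (mem_sup_right (by
    have h3 := hgZ x (h (mem_zpowers x))
    rw [← pow_one b, eb, pow_one, ← h3, mul_inv_cancel_right]; exact mem_zpowers x))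
  have hZz : Z ≤ zpowers (x' ^ 2) := fun w hw => (chain2 (hQ.to_le hx.le) (isCyclic_zpowers x) hx' hw.1).resolve_left
    fun h => h1 (zpowers_le.mpr hw h)
  obtain ⟨n, hxn⟩ := exists_npow hx'
  have hb2 : (b ^ n) ^ 2 = x' ^ 2 := by rw [eb, hxn, conj_pow, ← hgZ _ h2, mul_inv_cancel_right]
  obtain ⟨z₀, hz₀, e⟩ := mul_pow_mod hZc hD (hx.le hi) (hb.le hj) n
  rw [hij, conj_pow, ← pow_mul, ← pow_mul, mul_comm _ n, mul_comm _ n, pow_mul, pow_mul, hxn, pow_succ', pow_succ',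
    pow_mul, pow_mul, hb2] at e
  have hbn : b ^ n ∈ Q := Q.pow_mem hbQ n
  have hbx : (b ^ n) ^ 2 ∈ zpowers x := hb2 ▸ pow_mem hx' 2
  generalize b ^ n = b' at *
  obtain ⟨k, rfl⟩ := exists_npow (hZz hz₀)
  have hw := hD (commutator_mem_commutator (Q.inv_mem (hx.le hx')) hbn)
  have cz : ∀ u ∈ Q, Commute (x' ^ 2) u := fun u hu => hZc hu _ h2
  have cw : ∀ u ∈ Q, Commute ⁅x'⁻¹, b'⁆ u := fun u hu => hZc hu _ hw
  have e1 : b' * x' * b'⁻¹ = x' * ⁅x'⁻¹, b'⁆ := by group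
  have w2 : ⁅x'⁻¹, b'⁆ ^ 2 = 1 := by
    have := congrArg (· ^ 2) e1
    simp only [conj_pow, (cw _ (hx.le hx')).symm.mul_pow, ← (cz _ hbn).eq, mul_inv_cancel_right] at this
    exact left_eq_mul.mp this
  have e2 : ⁅x'⁻¹, b'⁆ * (x' ^ 2) ^ (2 * (i + j + k) + 1) = 1 := by
    have e3 : g * b' * g⁻¹ = x' * b' * (x' ^ 2) ^ (i + j + k) := by
      rw [e, mul_assoc x', ← mul_assoc _ b', ((cz _ hbn).pow_left i).eq, pow_add, pow_add]; group
    have e4 : (x' * b') ^ 2 = x' ^ 2 * ⁅x'⁻¹, b'⁆ * b' ^ 2 := by simp only [pow_two]; group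
    have : (g * b' * g⁻¹) ^ 2 = _ := congrArg (· ^ 2) e3
    rw [conj_pow, ((cz _ (Q.mul_mem (hx.le hx') hbn)).pow_left _).symm.mul_pow, e4, hb2, ← hgZ _ h2,
      mul_inv_cancel_right, mul_assoc, mul_assoc, left_eq_mul] at this
    rw [← this, ← pow_mul (x' ^ 2), pow_succ', mul_comm 2]
  have z2 : (x' ^ 2) ^ 2 = 1 := by
    have := mem_zpowers_odd hQ (Q.pow_mem (Q.pow_mem (hx.le hx') 2) 2) (odd_two_mul_add_one (i + j + k))
    rwa [← pow_mul (x' ^ 2), mul_comm, pow_mul, ← inv_eq_of_mul_eq_one_right e2, inv_pow, w2, inv_one, zpowers_one_eq_bot,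
      mem_bot] at this
  rw [commutatorElement_eq_one_iff_commute.mpr (hH b' hbn hbx x' hx' (by rw [← z2, ← pow_mul])).symm.inv_left, one_mul,
    pow_succ, pow_mul, z2, one_pow, one_mul] at e2
  rwa [e2, zpowers_one_eq_bot, le_bot_iff] at hZz

end Cfsg.Agent.FT.Cons
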