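/- Camina–Gagen: groups with a metacyclic Sylow 2-subgroup with large cyclic quotient.  Owner: helper3. -/
import Cfsg.Agent.FT.Cons.Meta2
import Cfsg.Agent.FT.Cons.Br44
import Cfsg.Agent.FT.Main
import Cfsg.Agent.Lib.Transfer.Frobenius
import Cfsg.Agent.Lib.Transfer.AbelianSylow

set_option autoImplicit false
set_option linter.unusedSectionVars false

namespace Cfsg.Agent.FT.Cons

open Subgroup Cfsg.Agent.Lib.Core
open scoped Cfsg.Agent.Lib.Glaub commutatorElement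

universe u

/-- metacyclic Sylow `2`-subgroup `⟨a⟩⟨s⟩` with `|S : ⟨a⟩| > 2` -/
structure MCyc {G : Type*} [Group G] (S : Subgroup G) (a s : G) : Prop where
  syl : IsSyl 2 S ⊤
  nrm : zpowers a ⊲ S
  gen : zpowers a ⊔ zpowers s = S
  sq : s ^ 2 ∉ zpowers a

namespace MCyc
variable {G : Type u} [Group G] [Finite G] {S Q : Subgroup G} {a s g u v : G} (h : MCyc S a s)
include h

theorem mem : s ∈ S := h.gen ▸ mem_sup_right (mem_zpowers s)

theorem comm {z n : G} (hz : z ∈ S) (h2 : z ^ 2 ∈ zpowers a) (hn : n ∈ zpowers a) (h4 : n ^ 4 = 1) : Commute z n := by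
  obtain ⟨c, hc, w, hw, rfl⟩ := (mem_sup_of_le_normalizer_left (h.nrm.le_norm (zpowers_le.mpr h.mem))).mp (h.gen ▸ hz)
  obtain ⟨j, rfl⟩ := exists_npow hw
  obtain ⟨j, rfl⟩ := Even.two_dvd (Nat.not_odd_iff_even.mp fun e : Odd j => h.sq (zpowers_le.mpr (by
    convert mul_mem (inv_mem (mul_mem hc (h.nrm.conj_mem (S.pow_mem h.mem j) hc))) h2 using 1
    rw [← pow_mul, mul_comm, pow_mul, pow_two, pow_two]; group) (mem_zpowers_odd h.syl.isPGroup (S.pow_mem h.mem 2) e)))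
  refine Commute.mul_left (mul_comm_of_isComm (isComm_zpowers a) hc hn) ?_
  obtain ⟨k, hk⟩ := exists_npow ((h.nrm.of_isCyclic (isCyclic_zpowers a) (zpowers_le.mpr hn)).conj_mem h.mem
    (mem_zpowers n))
  have e : s ^ 2 * n * (s ^ 2)⁻¹ = n ^ (k * k) := by rw [pow_mul, hk, conj_pow, hk, pow_two]; group
  rw [pow_mul]
  refine Commute.pow_left ?_ j
  rcases Nat.even_or_odd' k with ⟨m, rfl | rfl⟩
  · rw [show 2 * m * (2 * m) = 4 * (m * m) by ring, pow_mul, h4, one_pow, conj_eq_one_iff] at e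
    simp [e]
  · rw [show (2 * m + 1) * (2 * m + 1) = 4 * (m * m + m) + 1 by ring, pow_succ n, pow_mul, h4, one_pow, one_mul] at e
    exact mul_inv_eq_iff_eq_mul.mp e

theorem chain (hu : u ∈ S) (hv : v ∈ S) : u ∈ zpowers v ⊔ zpowers a ∨ v ∈ zpowers (u ^ 2) ⊔ zpowers a := by
  obtain ⟨T, _, _, f, -, hk, -⟩ := h.nrm.exists_bar
  have := chain2 (isPGroup_bar f h.syl.isPGroup) ((cycMod_iff_bar f le_rfl).mp ⟨s, h.mem, hk ▸ h.gen.ge⟩)
    (mem_bar_of_mem f (x := ⟨u, hu⟩) hu) (mem_bar_of_mem f (x := ⟨v, hv⟩) hv)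
  rwa [← map_pow, ← bar_zpowers, ← bar_zpowers, mem_bar_iff f (zpowers_le.mpr hv),
    mem_bar_iff f (zpowers_le.mpr (SetLike.coe_mem _)), hk] at this

theorem eq_of_max (hQS : Q ≤ S) (hfn : IsSyl 2 (S ⊓ 𝐍(Q)) (⊤ ⊓ 𝐍(Q))) (hg : Odd (orderOf g)) (hn : g ∈ 𝐍(Q))
    (hc : g ∉ 𝐂(Q)) (hmax : ∀ R : Subgroup G, IsPGroup 2 R → Q < R → ∀ k, Odd (orderOf k) → k ∈ 𝐍(R) → k ∈ 𝐂(R)) :
    Q = S ∧ DP (zpowers a) (zpowers (g * a * g⁻¹)) S := by
  have hS := h.syl.isPGroup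
  have hQ := hS.to_le hQS
  obtain ⟨x, hx⟩ := isCyclic_iff_zpowers.mp (isCyclic_of_le (isCyclic_zpowers a) (inf_le_right (a := Q)))
  have hxa : zpowers x ≤ zpowers a := hx.le.trans inf_le_right
  have hxS : zpowers x ⊲ S := h.nrm.of_isCyclic (isCyclic_zpowers a) hxa
  have hxQ : zpowers x ⊲ Q := hxS.mono (hx.le.trans inf_le_left) hQS
  obtain ⟨y, hy, hy'⟩ := (cycMod_inf_left (h.nrm.le_norm hQS)).mpr
    (CycMod.mono_left ⟨s, h.mem, h.gen.ge⟩ h.nrm.norm hQS)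
  have hD := homoc hQ hxQ (le_antisymm (sup_le hxQ.le (zpowers_le.mpr hy)) (hx ▸ hy')) hg hn hc
    fun z hz h2 n hn h4 => h.comm (hQS hz) (hxa h2) (hxa hn) h4
  suffices e : Q = S by
    subst e
    rw [inf_eq_right.mpr h.nrm.le] at hx
    refine ⟨rfl, ?_⟩
    rwa [← cj_zpowers, hx, cj_zpowers] at hD
  have hΦ := norm_le_norm_PhiOf Q
  have hK : CentSec 𝐍(Q) Q (PhiOf Q) ⊲ 𝐍(Q) := CentSec_nrm le_rfl hΦ
  have hQK : Q ≤ S ⊓ CentSec 𝐍(Q) Q (PhiOf Q) := le_inf hQS (le_CentSec le_normalizer (der_le_PhiOf hQ))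
  have hR : S ⊓ CentSec 𝐍(Q) Q (PhiOf Q) ≤ Q := by_contra fun hne => by
    obtain ⟨m, -, d, hd, hm, hm', rfl⟩ := Lib.Glaub.frattini_local hfn (le_inf le_top hK.le) (inf_le_right.trans hK.norm)
      (mem_top g) hn
    obtain ⟨k, hk⟩ := Lib.Transfer.exists_pow_coprime (p := 2) m
    have h1 := hmax _ (hS.to_le inf_le_left) (lt_of_le_not_ge hQK hne) _ (Nat.coprime_two_right.mp hk) (pow_mem hm' _)
    replace h1 := subcent_le_CentSec _ _ (PhiOf Q) (mem_inf.mpr ⟨pow_mem hm (2 ^ k), cent_anti hQK h1⟩)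
    obtain ⟨T, _, _, f, -, hf, -⟩ := hK.exists_bar
    have h2 : (m * d) ^ 2 ^ k ∈ CentSec 𝐍(Q) Q (PhiOf Q) := by
      rw [← hf] at h1 hd ⊢
      have e1 := (mem_kerOf f (x := ⟨m, hm⟩ ^ 2 ^ k)).mp h1
      have e2 := (mem_kerOf f (x := ⟨d, kerOf_le f hd⟩)).mp hd
      exact (mem_kerOf f (x := (⟨m, hm⟩ * ⟨d, kerOf_le f hd⟩) ^ 2 ^ k)).mpr (by
        rw [map_pow, map_mul, e2, mul_one, ← map_pow, e1])
    exact hc (cent_Phi hQ hg ((commutator_mono le_rfl ((zpowers_le.mpr (mem_zpowers_pow_iff.mpr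
      ((Nat.coprime_two_left.mpr hg).pow_left k))).trans (zpowers_le.mpr h2))).trans (comm_CentSec_le hΦ)))
  have hb2 : x ^ 2 = 1 → (g * x * g⁻¹) ^ 2 = 1 := fun e => by rw [conj_pow, e, conj_eq_one_iff]
  generalize g * x * g⁻¹ = b at *
  have hab := hD.isComm (isComm_zpowers x) (isComm_zpowers b)
  have hbQ : b ∈ Q := hD.right_le (mem_zpowers b)
  have hx1 : x ∈ Q := hxQ.le (mem_zpowers x)
  have sq : x ^ 2 ∈ PhiOf Q := pow_mem_PhiOf hQ hx1
  have key : ∀ t ∈ S ⊓ 𝐍(Q), t ∉ Q → t ^ 2 ∈ Q → t * x * t⁻¹ = x⁻¹ ∧ ⁅b, t⁆ ∉ PhiOf Q := fun t ht h1 h2 => by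
    have hA : zpowers t ≤ 𝐍(PhiOf Q) := zpowers_le.mpr (hΦ ht.2)
    have hL := (PhiOf_nrm Q).sup hxQ
    have h4 := idx2 (idx2_zpowers ((PhiOf_nrm Q).le_norm hxQ.le) sq)
      (le_normalizer_sup hA (hxS.le_norm (zpowers_le.mpr ht.1))) hA
    have h3 : ⁅b, t⁆ ∉ PhiOf Q := fun h3 => h1 (hR (mem_inf.mpr ⟨ht.1, (mem_CentSec hΦ).mpr ⟨ht.2, fun q hq => by
      rcases idx2_zpowers (hL.le_norm hD.right_le) (mem_sup_left (pow_mem_PhiOf hQ hbQ)) q
        ((hD.sup.ge.trans (sup_le_sup_right le_sup_right _)) hq) with e | e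
      · exact h4 (commutator_mem_commutator e (mem_zpowers t))
      · convert mul_mem (inv_mem ((PhiOf_nrm Q).conj_mem hq h3)) (h4 (commutator_mem_commutator e (mem_zpowers t)))
          using 1
        group⟩⟩))
    have h5 : ⁅b, t⁆ ∈ zpowers x := hx ▸ mem_inf.mpr ⟨comm_le_left (zpowers_le.mpr ht.2) (commutator_mem_commutator hbQ
      (mem_zpowers t)), CycMod.abMod ⟨s, h.mem, h.gen.ge⟩ h.nrm.norm (commutator_mem_commutator (hQS hbQ) ht.1)⟩
    have h6 : t * ⁅b, t⁆ * t⁻¹ = ⁅b, t⁆⁻¹ := by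
      rw [show t * ⁅b, t⁆ * t⁻¹ = t * b * t * (b⁻¹ * (t ^ 2)⁻¹) by rw [pow_two]; group,
        mul_comm_of_isComm hab (Q.inv_mem hbQ) (Q.inv_mem h2), pow_two]
      group
    obtain ⟨k, hk⟩ := exists_npow h5
    obtain ⟨m, hm⟩ := exists_npow (mem_zpowers_odd hQ hx1 (Nat.not_even_iff_odd.mp fun e => h3 (hk ▸ even_pow_mem sq e)))
    exact ⟨by rw [← hm, hk, ← conj_pow, h6, inv_pow], h3⟩
  by_contra hne
  have hlt := lt_inf_normalizer_of_isPGroup hS (lt_of_le_of_ne hQS hne)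
  by_cases hN : zpowers a ⊓ (S ⊓ 𝐍(Q)) ≤ Q
  · obtain ⟨t, ht, h1, h2⟩ := exists_sq_mem (hS.to_le inf_le_left) hlt.not_ge
    obtain ⟨h3, h4⟩ := key t ht h1 h2
    rcases h.chain ht.1 (hQS hbQ) with e | e
    · obtain ⟨c, hc, n, hn, rfl⟩ := (mem_sup_of_le_normalizer_right (h.nrm.le_norm (hD.right_le.trans hQS))).mp e
      have hcQ := hD.right_le hc
      exact h1 (mul_mem hcQ (hN (mem_inf.mpr ⟨hn, (mul_mem_cancel_left (hlt.le hcQ)).mp ht⟩)))
    · obtain ⟨c, hc, n, hn, rfl⟩ := (mem_sup_of_le_normalizer_right (h.nrm.le_norm (zpowers_le.mpr (hQS h2)))).mp e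
      have hcQ := zpowers_le.mpr h2 hc
      obtain ⟨l, rfl⟩ := exists_npow (show n ∈ zpowers x from hx ▸ mem_inf.mpr ⟨(mul_mem_cancel_left hcQ).mp hbQ, hn⟩)
      have h5 : t * c⁻¹ = c⁻¹ * t := mul_comm_of_isComm (isComm_zpowers t) (mem_zpowers t)
        (inv_mem (zpowers_le.mpr (pow_mem (mem_zpowers t) 2) hc))
      refine h4 ?_
      convert (PhiOf_nrm Q).conj_mem hcQ (pow_mem_PhiOf hQ (Q.pow_mem hx1 l)) using 1
      rw [show ⁅c * x ^ l, t⁆ = c * x ^ l * ((t * x * t⁻¹) ^ l)⁻¹ * (t * c⁻¹) * t⁻¹ by rw [conj_pow]; group, h3, h5, pow_two]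
      group
  · obtain ⟨t, ht, h1, h2⟩ := exists_sq_mem (hS.to_le (inf_le_right.trans inf_le_left)) hN
    obtain ⟨h3, h4⟩ := key t ht.2 h1 h2
    rw [mul_comm_of_isComm (isComm_zpowers a) ht.1 (hxa (mem_zpowers x)), mul_inv_cancel_right,
      eq_inv_iff_mul_eq_one, ← pow_two] at h3
    obtain ⟨l, hl⟩ := exists_npow (show t ^ 2 ∈ zpowers x from hx ▸ mem_inf.mpr ⟨h2, pow_mem ht.1 2⟩)
    refine h4 ?_
    rw [commutatorElement_eq_one_iff_commute.mpr (h.comm (hQS hbQ) (by rw [hb2 h3]; exact one_mem _) ht.1 (by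
      rw [show 4 = 2 * 2 from rfl, pow_mul, ← hl, ← pow_mul, mul_comm, pow_mul, h3, one_pow]))]
    exact one_mem _

theorem exists_dp (hG : ¬ HasNormalPComplement 2 G) : ∃ g, Odd (orderOf g) ∧ g ∈ 𝐍(S) ∧ g ∉ 𝐂(S) ∧
    DP (zpowers a) (zpowers (g * a * g⁻¹)) S := by
  let B : Subgroup G → Prop := fun Q => IsPGroup 2 Q ∧ ∃ g, Odd (orderOf g) ∧ g ∈ 𝐍(Q) ∧ g ∉ 𝐂(Q)
  have hB : ∀ Q k, B Q → B cj(k, Q) := fun Q k ⟨h1, g, h2, h3, h4⟩ => ⟨isPGroup_cj.mpr h1, k * g * k⁻¹,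
    by rwa [orderOf_conj], by rwa [← cj_norm, conj_mem_cj], by rwa [← cj_cent, conj_mem_cj]⟩
  have : Nonempty {Q // B Q} := by_contra fun hne => hG (Lib.Transfer.hasNormalPComplement_of_frobenius
    fun Q hQ g hg hc => by_contra fun h1 => hne ⟨⟨Q, hQ, g, Nat.coprime_two_right.mp hc, hg, h1⟩⟩)
  obtain ⟨⟨Q, hQ⟩, hm⟩ := Finite.exists_max fun Q : {Q // B Q} => Nat.card Q.1
  obtain ⟨k, -, hk⟩ := h.syl.exists_conj_le hQ.1 le_top
  obtain ⟨l, -, h1, h2⟩ := Lib.Glaub.exists_fullyNormalized h.syl hk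
  obtain ⟨-, g, h3, h4, h5⟩ := hB _ l (hB _ k hQ)
  obtain ⟨e, hD⟩ := h.eq_of_max h1 h2 h3 h4 h5 fun R hR hlt k hk hn => by_contra fun hc =>
    (hm ⟨R, hR, k, hk, hn, hc⟩).not_gt (by simpa only [card_cj] using card_lt_of_lt hlt)
  exact ⟨g, h3, e ▸ h4, e ▸ h5, hD⟩

theorem exists_lin (hG : ¬ HasNormalPComplement 2 G) : ∃ K : Subgroup G, K ≠ ⊤ ∧ S ≤ K ∧ commutator G ≤ K := by
  classical
  obtain ⟨g, hg, hn, hc, hD⟩ := h.exists_dp hG
  have hS := h.syl.isPGroup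
  have hab := hD.isComm (isComm_zpowers _) (isComm_zpowers _)
  have ha2 : a ^ 2 ≠ 1 := fun e => h.sq (by
    obtain ⟨c, hc, w, hw, e1⟩ := hD.mem h.mem
    obtain ⟨n, rfl⟩ := exists_npow hw
    rw [← e1, (hD.commute hc hw).mul_pow, ← pow_mul, mul_comm n, pow_mul, conj_pow, e, mul_one, mul_inv_cancel, one_pow,
      mul_one]
    exact pow_mem hc 2)
  have ha1 : a ≠ 1 := fun e => ha2 (by rw [e, one_pow])
  have hV : Nat.card (Ohm1 S) = 4 := by
    rw [← hD.Ohm1.card, card_Ohm1_of_isCyclic (isCyclic_zpowers _) (hS.to_le hD.left_le) (zpowers_ne_bot.mpr ha1),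
      card_Ohm1_of_isCyclic (isCyclic_zpowers _) (hS.to_le hD.right_le) (zpowers_ne_bot.mpr (conj_ne_one.mpr ha1))]
  have four : ∀ u v w z : G, u ∈ sharp (Ohm1 S) → v ∈ sharp (Ohm1 S) → w ∈ sharp (Ohm1 S) → z ∈ sharp (Ohm1 S) →
      u ≠ v → u ≠ w → v ≠ w → z = u ∨ z = v ∨ z = w := fun u v w z h1 h2 h3 h4 n1 n2 n3 => by
    have : ({u, v, w} : Set G) = sharp (Ohm1 S) := Set.eq_of_subset_of_ncard_le (by
      rintro _ (rfl | rfl | rfl) <;> assumption) (by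
      rw [ncard_sharp, hV, Set.ncard_eq_three.mpr ⟨u, v, w, n1, n2, n3, rfl⟩])
    rwa [← this] at h4
  have hO : ∀ k ∈ 𝐍(S), ∀ u ∈ sharp (Ohm1 S), k * u * k⁻¹ ∈ sharp (Ohm1 S) := fun k hk u hu =>
    (conj_mem_sharp (norm_le_norm_Ohm1 S hk)).mpr hu
  have fix : ∀ k ∈ 𝐍(S), ∀ u ∈ S, u ≠ 1 → k * u * k⁻¹ = u → k ∈ 𝐂(S) := fun k hk u hu h1 e => by
    obtain ⟨c, d, hc, hd, ⟨n, hn⟩, hd2, rfl⟩ := Lib.Transfer.exists_p_part_mul_p'_part (p := 2) k
    have hd3 := Nat.coprime_two_right.mp hd2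
    have hdn := zpowers_le.mpr hk hd
    refine mul_mem (isComm_iff_le_cent.mp hab (h.syl.le_of_le_normalizer' (isPGroup_zpowers hn) le_top
      (zpowers_le.mpr (zpowers_le.mpr hk hc)) (mem_zpowers c))) (coprime_abelian_faithful_Ohm1 (zpowers_le.mpr hdn)
      (cop_odd hS hd3) hab (zpowers_le.mpr (zpowers_le.mpr (mem_cent_iff.mpr fun v hv => ?_) (mem_zpowers_sq hd3)))
      (mem_zpowers d))
    obtain ⟨w, hw, hw1⟩ := exists_ne_one (Ohm1_ne_bot (zpowers_ne_bot.mpr h1))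
    have hw2 : w ∈ sharp (Ohm1 S) := ⟨Ohm1_mono (zpowers_le.mpr hu) hw, hw1⟩
    have e1 : d * w * d⁻¹ = w := mem_C1_iff_conj.mp (C1_le_C1_of_mem_zpowers (Ohm1_le _ hw)
      (zpowers_le.mpr (mem_C1_iff_conj.mpr e) hd))
    have inj : ∀ x y : G, d * x * d⁻¹ = d * y * d⁻¹ → x = y := fun x y e => by simpa using e
    rw [eq_comm, ← mul_inv_eq_iff_eq_mul, show d ^ 2 * v * (d ^ 2)⁻¹ = d * (d * v * d⁻¹) * d⁻¹ by rw [pow_two]; group]
    rcases eq_or_ne v 1 with rfl | hv1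
    · simp
    by_cases n1 : w = v
    · rw [← n1, e1, e1]
    by_cases n2 : v = d * v * d⁻¹
    · rw [← n2, ← n2]
    rcases four w v _ _ hw2 ⟨hv, hv1⟩ (hO d hdn v ⟨hv, hv1⟩) (hO d hdn _ (hO d hdn v ⟨hv, hv1⟩)) n1
      (fun e => n1 (inj _ _ (e1.trans e))) n2 with e | e | e
    exacts [absurd (inj _ _ (e1.trans (inj _ _ (e1.trans e.symm)))) n1, e, absurd (inj _ _ e).symm n2]
  let φ : S ≃* S := normalizerMonoidHom S ⟨g, hn⟩
  have hφ : ∀ u : S, (φ u : G) = g * u * g⁻¹ := fun u => rfl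
  have fpf : ∀ u, φ u = u → u = 1 := fun u e => by_contra fun h1 =>
    hc (fix g hn u u.2 (fun e => h1 (Subtype.ext e)) (congrArg Subtype.val e))
  have three : ∀ k ∈ 𝐍(S), (∀ u : S, k * u * k⁻¹ = u) ∨ (∀ u : S, k * u * k⁻¹ = φ u) ∨
      ∀ u : S, k * u * k⁻¹ = φ (φ u) := fun k hk => by
    obtain ⟨w, hw, hw1⟩ := exists_ne_one (Ohm1_ne_bot (H := S) (ne_bot_of_mem (hD.left_le (mem_zpowers a)) ha1))
    have hwS := Ohm1_le S hw
    have n1 : w ≠ g * w * g⁻¹ := fun e => hc (fix g hn w hwS hw1 e.symm)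
    have e2 : ∀ x, g * (g * x * g⁻¹) * g⁻¹ = g ^ 2 * x * (g ^ 2)⁻¹ := fun x => by rw [pow_two]; group
    have aux : ∀ l ∈ 𝐍(S), k * w * k⁻¹ = l * w * l⁻¹ → ∀ u : S, k * u * k⁻¹ = l * u * l⁻¹ := fun l hl e u => by
      have := fix (l⁻¹ * k) (mul_mem (inv_mem hl) hk) w hwS hw1 (by
        rw [show l⁻¹ * k * w * (l⁻¹ * k)⁻¹ = l⁻¹ * (k * w * k⁻¹) * l by group, e]; group) u u.2
      rw [show k * u * k⁻¹ = l * (l⁻¹ * k * u) * k⁻¹ by group, ← this]; group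
    refine (four w _ _ _ ⟨hw, hw1⟩ (hO g hn w ⟨hw, hw1⟩) (hO g hn _ (hO g hn w ⟨hw, hw1⟩)) (hO k hk w ⟨hw, hw1⟩) n1
      (fun e => hc (zpowers_le.mpr (fix _ (pow_mem hn 2) w hwS hw1 (by rw [← e2, ← e])) (mem_zpowers_sq hg)))
      (by simpa using n1)).imp (fun e u => by simpa using aux 1 (one_mem _) (by simpa using e) u)
      (Or.imp (aux g hn) fun e u => ?_)
    rw [hφ, hφ, e2]
    exact aux _ (pow_mem hn 2) (e.trans (e2 w)) u
  have := Fintype.ofFinite G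
  have := Fintype.ofFinite S
  obtain ⟨P, hP⟩ := h.syl.exists_sylow_top
  have H : BrHyp S φ :=
    { comm := fun u v => Subtype.ext (mul_comm_of_isComm hab u.2 v.2)
      pg := hS
      fpf := fpf
      fus := fun u v => ⟨fun hc => by
        obtain ⟨c, hc⟩ := isConj_iff.mp hc
        subst hP
        obtain ⟨k, hk, e⟩ := Lib.Transfer.control_of_abelian_sylow P u u.2 c (hc ▸ v.2)
        simp only [Subtype.ext_iff, ← hc, ← e]
        exact (three k hk).imp (· u) (Or.imp (· u) (· u)), by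
        rintro (rfl | rfl | rfl)
        exacts [IsConj.refl _, isConj_iff.mpr ⟨g, rfl⟩, (isConj_iff.mpr ⟨g, rfl⟩).trans (isConj_iff.mpr ⟨g, rfl⟩)]⟩
      cube := fun u => by
        have e : ∀ u : S, g ^ 3 * u * (g ^ 3)⁻¹ = φ (φ (φ u)) := fun u => by
          simp only [hφ, pow_succ, pow_zero]; group
        rcases three _ (pow_mem hn 3) with e1 | e1 | e1 <;> simp only [e, ← Subtype.ext_iff, EmbeddingLike.apply_eq_iff_eq] at e1
        · exact e1 u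
        · refine absurd (zpowers_le.mpr (mem_cent_iff.mpr fun y hy => ?_) (mem_zpowers_sq hg)) hc
          rw [eq_comm, ← mul_inv_eq_iff_eq_mul]
          refine .trans ?_ (congrArg Subtype.val (e1 ⟨y, hy⟩))
          rw [hφ, hφ, pow_two]; group
        · rw [e1, e1, e1]
      npc := fun u hu => by
        have h1 : IsSyl 2 S (C1 (u : G)) := h.syl.mono (le_C1_iff.mpr (isComm_iff_le_cent.mp hab u.2)) le_top
        obtain ⟨T, hT⟩ := h1.exists_sylow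
        have h2 := Lib.Transfer.hasNormalPComplement_of_normalizer_le_centralizer T fun k hk => by
          rw [← Sylow.coe_coe, hT] at hk ⊢
          rw [← subgroupOf_centralizer_eq h1.le]
          exact fix k ((map_subtype_normalizer_subgroupOf h1.le).le ⟨k, hk, rfl⟩).2 u u.2 (fun e => hu (Subtype.ext e))
            (mem_C1_iff_conj.mp k.2)
        exact ⟨h2, by rw [(Lib.Transfer.isComplement'_pResidual_of_not_dvd
          (Lib.Transfer.hasNormalPComplement_iff_not_dvd.mp h2) T).symm.index_eq_card, hT, card_subgroupOf h1.le,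
          Nat.card_eq_fintype_card]⟩
      dvd := by
        rw [← Nat.card_eq_fintype_card, ← hD.card, Nat.card_zpowers, Nat.card_zpowers, orderOf_conj]
        obtain ⟨k, hk⟩ := exists_card_eq_pow (hS.to_le hD.left_le)
        rw [Nat.card_zpowers] at hk
        have : 2 ≤ k := by_contra fun h2 => ha2 (orderOf_dvd_iff_pow_eq_one.mp (hk ▸ by
          simpa using pow_dvd_pow 2 (show k ≤ 1 by omega)))
        rw [hk]
        exact mul_dvd_mul (pow_dvd_pow 2 this) (pow_dvd_pow 2 this)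
      exp := ⟨⟨a, hD.left_le (mem_zpowers a)⟩, fun e => ha2 (congrArg Subtype.val e)⟩ }
  obtain ⟨χ, h1, h2, h3⟩ := H.exists_lin
  refine ⟨_, fun e => h1 (Lib.Char.kerI_eq_top_iff.mp e), h3, commutator_le.mpr fun x _ y _ => ?_⟩
  exact Lib.Char.commutator_mem_kerI (Lib.Char.lin_norm (Lib.Char.linOf h2) x) (by simp [h2]; rfl) y

end MCyc

theorem solvable_of_mcyc (G : Type u) [Group G] [Finite G] : ∀ (S : Subgroup G) (a s : G), MCyc S a s →
    Group.IsSolvable G := by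
  refine card_induction (P := fun G _ _ => ∀ (S : Subgroup G) (a s : G), MCyc S a s → Group.IsSolvable G)
    (fun G _ _ ih S a s h => ?_) G
  by_cases hG : HasNormalPComplement 2 G
  · exact (Group.isSolvable_iff_subgroup_quotient (pResidual 2 G)).mpr ⟨feit_thompson _ (Nat.odd_iff.mpr (by
      have := Lib.Transfer.hasNormalPComplement_iff_not_dvd.mp hG; omega)),
      isSolvable_of_isPGroup Lib.Transfer.isPGroup_quotient_pResidual⟩
  obtain ⟨K, h1, h2, h3⟩ := h.exists_lin hG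
  have ha := h2 (h.nrm.le (mem_zpowers a))
  have e : ∀ {x : G} (hx : x ∈ K), zpowers (⟨x, hx⟩ : K) = (zpowers x).subgroupOf K := fun hx => by
    rw [← subgroupOf_map_subtype_self (zpowers _), MonoidHom.map_zpowers]; rfl
  have := ih K (card_lt_of_ne_top h1) (S.subgroupOf K) ⟨a, ha⟩ ⟨s, h2 h.mem⟩
    ⟨by simpa using (h.syl.mono h2 le_top).subgroupOf le_rfl, e ha ▸ h.nrm.comap _, by
      rw [e, e, ← subgroupOf_sup (h.nrm.le.trans h2) (zpowers_le.mpr (h2 h.mem)), h.gen], by rw [e]; exact h.sq⟩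
  exact isSolvable_of_equiv (isSolvable_of_der (H := ⊤) (isSolvable_of_le this h3)) topEquiv

end Cfsg.Agent.FT.Cons
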